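import Groth.Prelude.Def_Frob
import Groth.Agent.FSchLib.IdealSheaf
import Mathlib.FieldTheory.Perfect
import Mathlib.FieldTheory.IsAlgClosed.Basic
import Mathlib.FieldTheory.Finite.Basic

/-!
# Ideal sheaves pulled back along Frobenius-twisted morphisms
-/

set_option autoImplicit false
set_option linter.style.haveILetI false

universe u

open CategoryTheory CategoryTheory.Limits AlgebraicGeometry Opposite

noncomputable section

namespace Groth.Agent.LVFrob

variable (p : ℕ) [Fact p.Prime]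

/-- Iterates of the absolute Frobenius. -/
def FN (X : Scheme.{u}) [FrobSch.IsCharP X p] : ℕ → (X ⟶ X)
  | 0 => 𝟙 X
  | k + 1 => FN X k ≫ FrobSch.frob X p

variable {X Y : Scheme.{u}} [FrobSch.IsCharP X p] [FrobSch.IsCharP Y p]

theorem FN_eq (k : ℕ) : FN p X k = End.asHom (End.of (FrobSch.frob X p) ^ k) := by
  induction k with
  | zero => rfl
  | succ k ih =>
    rw [pow_succ', FN, ih]
    rfl

theorem FN_comm (f : X ⟶ Y) (k : ℕ) : FN p X k ≫ f = f ≫ FN p Y k := by
  induction k with
  | zero => simp [FN]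
  | succ k ih => rw [FN, Category.assoc, FrobSch.frob_comp, reassoc_of% ih, FN]

theorem FN_apply (k : ℕ) (x : X) : FN p X k x = x := by
  induction k with
  | zero => simp [FN]
  | succ k ih => rw [FN, Scheme.Hom.comp_apply, ih, FrobSch.frob_apply]

theorem FN_preimage (k : ℕ) (U : X.Opens) : FN p X k ⁻¹ᵁ U = U :=
  TopologicalSpace.Opens.ext (Set.ext fun x => by
    show FN p X k x ∈ U ↔ x ∈ U
    rw [FN_apply])

theorem FN_appLE (k : ℕ) : ∀ (U : X.Opens) (e : U ≤ FN p X k ⁻¹ᵁ U) (s : Γ(X, U)),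
    (FN p X k).appLE U U e s = s ^ p ^ k := by
  induction k with
  | zero =>
    intro U e s
    show X.presheaf.map (𝟙 (op U)) ((𝟙 Γ(X, U) : Γ(X, U) ⟶ Γ(X, U)) s) = _
    simp
  | succ k ih =>
    intro U e s
    have e' : U ≤ FN p X k ⁻¹ᵁ U := (FN_preimage p k U).ge
    have h1 : (FN p X (k + 1)).appLE U U e =
        (FrobSch.frob X p).appLE U U le_rfl ≫ (FN p X k).appLE U U e' :=
      (Scheme.Hom.appLE_comp_appLE (FN p X k) (FrobSch.frob X p) U U U le_rfl e').symm
    rw [h1, CommRingCat.comp_apply]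
    have h2 : (FrobSch.frob X p).appLE U U le_rfl s = s ^ p := by
      rw [Scheme.Hom.appLE]
      show X.presheaf.map (𝟙 (op U)) ((FrobSch.frob X p).app U s) = _
      rw [CategoryTheory.Functor.map_id]
      exact FrobSch.frob_app X p U s
    rw [h2, map_pow, ih, ← pow_mul, pow_succ]

theorem ideal_comap_FN_le (Q : X.IdealSheafData) (k : ℕ) (U : X.affineOpens) :
    (Q.comap (FN p X k)).ideal U ≤ Ideal.span ((fun s => s ^ p ^ k) '' (Q.ideal U : Set Γ(X, U.1))) := by
  rw [FSchLib.ideal_comap_eq_map (FN p X k) Q U U (FN_preimage p k U.1).ge, Ideal.map_le_iff_le_comap]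
  intro s hs
  rw [Ideal.mem_comap, FN_appLE]
  exact Ideal.subset_span ⟨s, hs, rfl⟩

/-- Pulling an ideal back along a high enough Frobenius iterate contracts it. -/
theorem comap_FN_le_and_pow_le (Q J : X.IdealSheafData) (k d : ℕ) (hd : J.radical ^ d ≤ J) (hk : d < p ^ k)
    (hsupp : (J.support : Set X) ⊆ Q.support) :
    Q.comap (FN p X k) ≤ J ∧ Q.comap (FN p X k) ^ d ≤ J ^ (d + 1) := by
  have hQ : Q ≤ J.radical := by
    rw [← Scheme.IdealSheafData.vanishingIdeal_support]
    exact Scheme.IdealSheafData.le_support_iff_le_vanishingIdeal.1 hsupp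
  have hL : ∀ U : X.affineOpens, (Q.comap (FN p X k)).ideal U ≤ J.radical.ideal U ^ (p ^ k) := by
    intro U
    refine (ideal_comap_FN_le p Q k U).trans (Ideal.span_le.2 ?_)
    rintro _ ⟨s, hs, rfl⟩
    exact Ideal.pow_mem_pow (hQ U hs) _
  have hd' : ∀ U : X.affineOpens, J.radical.ideal U ^ d ≤ J.ideal U := fun U => by
    have := hd U
    simpa using this
  refine ⟨fun U => (hL U).trans ((Ideal.pow_le_pow_right hk.le).trans (hd' U)), fun U => ?_⟩
  simp only [Scheme.IdealSheafData.ideal_pow, Pi.pow_apply]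
  calc (Q.comap (FN p X k)).ideal U ^ d ≤ (J.radical.ideal U ^ (p ^ k)) ^ d := Ideal.pow_right_mono (hL U) d
    _ = J.radical.ideal U ^ (p ^ k * d) := (pow_mul _ _ _).symm
    _ ≤ J.radical.ideal U ^ (d * (d + 1)) := Ideal.pow_le_pow_right (by rw [mul_comm d]; exact Nat.mul_le_mul_right d hk)
    _ = (J.radical.ideal U ^ d) ^ (d + 1) := pow_mul _ _ _
    _ ≤ J.ideal U ^ (d + 1) := Ideal.pow_right_mono (hd' U) _

/-- The twisted endomorphism of a base change from a finite field factors through an iterate of the absolute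
Frobenius. -/
theorem exists_factor {C C₀ : Scheme.{u}} [FrobSch.IsCharP C p]
    (k₀ : Type u) [Field k₀] [Fintype k₀] [CharP k₀ p] (e : ℕ) (hq : Fintype.card k₀ = p ^ e)
    (K : Type u) [Field K] [Algebra k₀ K] [IsAlgClosure k₀ K]
    (f₀ : C₀ ⟶ Spec (CommRingCat.of k₀)) [FrobSch.IsCharP C₀ p]
    (πC₀ : C ⟶ C₀) (πK : C ⟶ Spec (CommRingCat.of K))
    (hC : IsPullback πC₀ πK f₀ (Spec.map (CommRingCat.ofHom (algebraMap k₀ K))))
    (n : ℕ) (Fr : C ⟶ C)
    (hFr₀ : Fr ≫ πC₀ = πC₀ ≫ End.asHom (End.of (FrobSch.frob C₀ p) ^ (e * n)))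
    (hFrK : Fr ≫ πK = πK) :
    ∃ σ : C ⟶ C, Fr = FN p C (e * n) ≫ σ := by
  haveI : IsAlgClosed K := IsAlgClosure.isAlgClosed k₀
  haveI : CharP K p := charP_of_injective_algebraMap (algebraMap k₀ K).injective p
  haveI : PerfectRing K p := PerfectRing.ofSurjective K p fun x => by
    obtain ⟨y, hy⟩ := IsAlgClosed.exists_pow_nat_eq x (Fact.out : p.Prime).pos
    exact ⟨y, hy⟩
  let sp := Spec.map (CommRingCat.ofHom (algebraMap k₀ K))
  have hK : ∀ m, IsIso (FN p (Spec (CommRingCat.of K)) m) := by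
    intro m
    induction m with
    | zero => exact inferInstanceAs (IsIso (𝟙 _))
    | succ m ih =>
      haveI : IsIso (FrobSch.frob (Spec (CommRingCat.of K)) p) := by
        haveI : IsIso (Spec.map (CommRingCat.ofHom (frobenius K p))) :=
          isIso_SpecMap_iff.2 (bijective_frobenius K p)
        have h : FrobSch.frob (Spec (CommRingCat.of K)) p = Spec.map (CommRingCat.ofHom (frobenius K p)) := by
          refine AlgebraicGeometry.ext_of_isAffine ?_
          rw [← cancel_epi (Scheme.ΓSpecIso (CommRingCat.of K)).inv, ← cancel_mono (Scheme.ΓSpecIso (CommRingCat.of K)).hom]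
          simp only [Category.assoc, Scheme.ΓSpecIso_naturality, Iso.inv_hom_id_assoc]
          ext r
          show (Scheme.ΓSpecIso (CommRingCat.of K)).hom
            ((FrobSch.frob (Spec (CommRingCat.of K)) p).appTop ((Scheme.ΓSpecIso (CommRingCat.of K)).inv r)) = r ^ p
          rw [FrobSch.frob_appTop, map_pow]
          simp
        rw [h]; infer_instance
      rw [FN]; infer_instance
  have hk₀ : FN p (Spec (CommRingCat.of k₀)) (e * n) = 𝟙 _ := by
    refine AlgebraicGeometry.ext_of_isAffine ?_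
    ext s
    rw [Scheme.Hom.appTop, Scheme.Hom.app_eq_appLE]
    erw [FN_appLE]
    simp only [Scheme.Hom.id_appTop, CommRingCat.id_apply]
    apply (Scheme.ΓSpecIso (CommRingCat.of k₀)).commRingCatIsoToRingEquiv.injective
    rw [map_pow, pow_mul, ← hq, FiniteField.pow_card_pow]
  haveI := hK (e * n)
  refine ⟨hC.lift πC₀ (πK ≫ inv (FN p (Spec (CommRingCat.of K)) (e * n))) ?_, hC.hom_ext ?_ ?_⟩
  · have h2 : inv (FN p (Spec (CommRingCat.of K)) (e * n)) ≫ sp = sp := by
      rw [IsIso.inv_comp_eq, FN_comm, hk₀, Category.comp_id]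
    rw [Category.assoc, h2]
    exact hC.w
  · rw [Category.assoc, IsPullback.lift_fst, hFr₀, ← FN_eq, FN_comm]
  · rw [Category.assoc, IsPullback.lift_snd, hFrK, ← Category.assoc, FN_comm, Category.assoc,
      IsIso.hom_inv_id, Category.comp_id]

end Groth.Agent.LVFrob
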