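import Groth.Agent.LVFrob.Open
import Groth.Agent.S19878
import Groth.Agent.S2277
import Mathlib.AlgebraicGeometry.Noetherian

/-!
# Fixed points of twisted correspondences are isolated
-/

set_option autoImplicit false
set_option linter.style.haveILetI false

universe u

open CategoryTheory CategoryTheory.Limits AlgebraicGeometry TopologicalSpace

noncomputable section

namespace Groth.Agent.LVFrob

theorem finite_discrete_fix {C C₀ X Fx : Scheme.{u}} (p : ℕ) [Fact p.Prime]
    (k₀ : Type u) [Field k₀] [Fintype k₀] [CharP k₀ p] (e : ℕ) (hq : Fintype.card k₀ = p ^ e)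
    (K : Type u) [Field K] [Algebra k₀ K] [IsAlgClosure k₀ K]
    (f₀ : C₀ ⟶ Spec (CommRingCat.of k₀)) [LocallyOfFiniteType f₀] [QuasiCompact f₀] [FrobSch.IsCharP C₀ p]
    (πC₀ : C ⟶ C₀) (πK : C ⟶ Spec (CommRingCat.of K))
    (hC : IsPullback πC₀ πK f₀ (Spec.map (CommRingCat.ofHom (algebraMap k₀ K))))
    (n : ℕ) (Fr : C ⟶ C)
    (hFr₀ : Fr ≫ πC₀ = πC₀ ≫ End.asHom (End.of (FrobSch.frob C₀ p) ^ (e * n)))
    (hFrK : Fr ≫ πK = πK)
    (pX : X ⟶ Spec (CommRingCat.of K)) [LocallyOfFiniteType pX]
    (c₁ c₂ : C ⟶ X) [LocallyQuasiFinite c₂] [LocallyOfFiniteType c₂]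
    (hcomm : (Fr ≫ c₁) ≫ pX = c₂ ≫ pX) (d : ℕ) (hn : d < p ^ (e * n))
    (hd : ∀ (x : X) (hx : IsClosed ({x} : Set X)),
      ((Scheme.IdealSheafData.vanishingIdeal ⟨{x}, hx⟩).comap c₂).radical ^ d ≤
        (Scheme.IdealSheafData.vanishingIdeal ⟨{x}, hx⟩).comap c₂)
    (i : Fx ⟶ C) (δ : Fx ⟶ X)
    (hF : IsPullback i δ (pullback.lift (Fr ≫ c₁) c₂ hcomm) (pullback.diagonal pX)) :
    Finite Fx ∧ DiscreteTopology Fx := by
  haveI : LocallyOfFiniteType πK := MorphismProperty.of_isPullback hC inferInstance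
  haveI : QuasiCompact πK := MorphismProperty.of_isPullback hC inferInstance
  haveI : IsImmersion i := MorphismProperty.of_isPullback (P := @IsImmersion) hF.flip inferInstance
  haveI : IsLocallyNoetherian C := LocallyOfFiniteType.isLocallyNoetherian πK
  haveI : CompactSpace C := QuasiCompact.compactSpace_of_compactSpace πK
  haveI : AlgebraicGeometry.IsNoetherian C := ⟨⟩
  haveI : NoetherianSpace Fx := i.isEmbedding.isInducing.noetherianSpace
  haveI : LocallyConnectedSpace Fx := S2277.result Fx fun x => ⟨Set.univ, Filter.univ_mem, inferInstance⟩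
  have h2 : i ≫ c₂ = δ := by
    have := congr_arg (· ≫ pullback.snd pX pX) hF.w
    simpa [pullback.lift_snd] using this
  haveI : LocallyOfFiniteType (i ≫ πK) := inferInstance
  haveI : JacobsonSpace Fx := LocallyOfFiniteType.jacobsonSpace (i ≫ πK)
  haveI : JacobsonSpace X := LocallyOfFiniteType.jacobsonSpace pX
  haveI : LocallyOfFiniteType (δ ≫ pX) := by
    rw [← h2, Category.assoc]
    infer_instance
  haveI : LocallyOfFiniteType δ := locallyOfFiniteType_of_comp δ pX
  have key : ∀ y : Fx, IsClosed ({y} : Set Fx) → IsOpen ({y} : Set Fx) := by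
    intro y hy
    have hx : IsClosed ({δ y} : Set X) := by
      have := δ.closePoints_subset_preimage_closedPoints (mem_closedPoints_iff.2 hy)
      exact mem_closedPoints_iff.1 this
    obtain ⟨W, hW, hle, k, hpow⟩ := exists_contracting p k₀ e hq K f₀ πC₀ πK hC n Fr hFr₀ hFrK pX c₁ c₂ hcomm d hn
      hd (δ y) hx
    have hiW : Set.range i.base ⊆ (W : Set C) := by
      rintro _ ⟨z, rfl⟩
      exact hW ⟨δ z, by rw [← Scheme.Hom.comp_apply, ← Scheme.Hom.comp_apply, hF.w]⟩
    let β : Fx.Opens := ⟨connectedComponent y, isOpen_connectedComponent⟩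
    have hsupp : ((Scheme.IdealSheafData.vanishingIdeal ⟨{δ y}, hx⟩).support : Set X) = {δ y} :=
      Scheme.IdealSheafData.coe_support_vanishingIdeal _
    have hsub := S19878.result K πK pX (Fr ≫ c₁) c₂ hcomm i δ hF
      (Scheme.IdealSheafData.vanishingIdeal ⟨{δ y}, hx⟩) W hiW hle k hpow β isConnected_connectedComponent
      ⟨δ y, ⟨y, mem_connectedComponent, rfl⟩, by rw [hsupp]; rfl⟩
    rw [hsupp] at hsub
    have hdisc : _root_.IsDiscrete (c₂ ⁻¹' {δ y}) := c₂.isDiscrete_preimage_singleton (δ y)
    have hdisc' : _root_.IsDiscrete (connectedComponent y) := by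
      refine (hdisc.preimage i.continuous.continuousOn i.isEmbedding.injective).mono fun z hz => ?_
      show c₂ (i z) = δ y
      rw [← Scheme.Hom.comp_apply, h2]
      exact hsub hz
    have hsub1 : (connectedComponent y).Subsingleton := by
      haveI := hdisc'.to_subtype
      haveI : PreconnectedSpace (connectedComponent y) :=
        isPreconnected_iff_preconnectedSpace.1 isPreconnected_connectedComponent
      intro a ha b hb
      haveI := PreconnectedSpace.trivial_of_discrete (X := connectedComponent y)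
      exact congrArg Subtype.val (Subsingleton.elim (⟨a, ha⟩ : connectedComponent y) ⟨b, hb⟩)
    have : connectedComponent y = {y} := hsub1.eq_singleton_of_mem mem_connectedComponent
    rw [← this]
    exact isOpen_connectedComponent
  have hall : ∀ y : Fx, IsClosed ({y} : Set Fx) := by
    intro y
    by_contra hy
    have hopen : IsOpen (closedPoints Fx) := by
      rw [← Set.biUnion_of_singleton (closedPoints Fx)]
      exact isOpen_biUnion fun z hz => key z (mem_closedPoints_iff.1 hz)
    obtain ⟨z, hz, hz'⟩ := nonempty_inter_closedPoints (Z := (closedPoints Fx)ᶜ)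
      ⟨y, fun h => hy (mem_closedPoints_iff.1 h)⟩ hopen.isClosed_compl.isLocallyClosed
    exact hz hz'
  haveI : DiscreteTopology Fx := discreteTopology_iff_isOpen_singleton.2 fun y => key y (hall y)
  exact ⟨finite_of_compact_of_discrete, inferInstance⟩

end Groth.Agent.LVFrob
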