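import Groth.Agent.LVFrob.Basic
import Mathlib.AlgebraicGeometry.Morphisms.QuasiFinite

/-!
# Twisted correspondences are contracting near their fixed points
-/

set_option autoImplicit false
set_option linter.style.haveILetI false

universe u

open CategoryTheory CategoryTheory.Limits AlgebraicGeometry Opposite

noncomputable section

namespace Groth.Agent.LVFrob

theorem radical_comap_pow_le {X U : Scheme.{u}} (i : U ⟶ X) [IsOpenImmersion i] (J : X.IdealSheafData) (d : ℕ)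
    (hd : J.radical ^ d ≤ J) : (J.comap i).radical ^ d ≤ J.comap i := by
  intro V
  simp only [Scheme.IdealSheafData.ideal_pow, Pi.pow_apply, Scheme.IdealSheafData.radical_ideal,
    Scheme.IdealSheafData.ideal_comap_of_isOpenImmersion, ← Ideal.comap_radical]
  refine (Ideal.le_comap_pow _ d).trans (Ideal.comap_mono ?_)
  have := hd ⟨i ''ᵁ V.1, V.2.image_of_isOpenImmersion i⟩
  simpa using this

theorem exists_contracting {C C₀ X : Scheme.{u}} (p : ℕ) [Fact p.Prime]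
    (k₀ : Type u) [Field k₀] [Fintype k₀] [CharP k₀ p] (e : ℕ) (hq : Fintype.card k₀ = p ^ e)
    (K : Type u) [Field K] [Algebra k₀ K] [IsAlgClosure k₀ K]
    (f₀ : C₀ ⟶ Spec (CommRingCat.of k₀)) [FrobSch.IsCharP C₀ p]
    (πC₀ : C ⟶ C₀) (πK : C ⟶ Spec (CommRingCat.of K))
    (hC : IsPullback πC₀ πK f₀ (Spec.map (CommRingCat.ofHom (algebraMap k₀ K))))
    (n : ℕ) (Fr : C ⟶ C)
    (hFr₀ : Fr ≫ πC₀ = πC₀ ≫ End.asHom (End.of (FrobSch.frob C₀ p) ^ (e * n)))
    (hFrK : Fr ≫ πK = πK)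
    (pX : X ⟶ Spec (CommRingCat.of K)) (c₁ c₂ : C ⟶ X) [LocallyQuasiFinite c₂]
    (hcomm : (Fr ≫ c₁) ≫ pX = c₂ ≫ pX) (d : ℕ) (hn : d < p ^ (e * n))
    (hd : ∀ (x : X) (hx : IsClosed ({x} : Set X)),
      ((Scheme.IdealSheafData.vanishingIdeal ⟨{x}, hx⟩).comap c₂).radical ^ d ≤
        (Scheme.IdealSheafData.vanishingIdeal ⟨{x}, hx⟩).comap c₂)
    (x : X) (hx : IsClosed ({x} : Set X)) :
    ∃ W : C.Opens,
      (pullback.lift (Fr ≫ c₁) c₂ hcomm).base ⁻¹' Set.range (pullback.diagonal pX).base ⊆ (W : Set C) ∧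
      (Scheme.IdealSheafData.vanishingIdeal ⟨{x}, hx⟩).comap (W.ι ≫ Fr ≫ c₁) ≤
        (Scheme.IdealSheafData.vanishingIdeal ⟨{x}, hx⟩).comap (W.ι ≫ c₂) ∧
      ∃ k : ℕ, (Scheme.IdealSheafData.vanishingIdeal ⟨{x}, hx⟩).comap (W.ι ≫ Fr ≫ c₁) ^ k ≤
        (Scheme.IdealSheafData.vanishingIdeal ⟨{x}, hx⟩).comap (W.ι ≫ c₂) ^ (k + 1) := by
  haveI : FrobSch.IsCharP C p := FrobSch.IsCharP.of_hom πC₀ p
  obtain ⟨σ, hσ⟩ := exists_factor p k₀ e hq K f₀ πC₀ πK hC n Fr hFr₀ hFrK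
  let Fib : Set C := c₂ ⁻¹' {x}
  have hFib : IsClosed Fib := hx.preimage c₂.continuous
  haveI : DiscreteTopology Fib := (c₂.isDiscrete_preimage_singleton x).to_subtype
  let B : Set C := Fib ∩ {y | (Fr ≫ c₁) y ≠ x}
  have hB : IsClosed B := by
    have h : IsClosed ((↑) ⁻¹' B : Set Fib) := isClosed_discrete _
    have h2 := hFib.isClosedEmbedding_subtypeVal.isClosedMap _ h
    rwa [Subtype.image_preimage_coe, Set.inter_eq_right.2 Set.inter_subset_left] at h2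
  let W : C.Opens := ⟨Bᶜ, hB.isOpen_compl⟩
  refine ⟨W, ?_, ?_⟩
  · rintro y ⟨z, hz⟩ ⟨hy₂, hy₁⟩
    have h1 : (Fr ≫ c₁) y = z := by
      rw [← pullback.lift_fst (Fr ≫ c₁) c₂ hcomm, Scheme.Hom.comp_apply]
      exact (congrArg (fun w => pullback.fst pX pX w) hz).symm.trans
        (by rw [← Scheme.Hom.comp_apply, pullback.diagonal_fst]; simp)
    have h2 : c₂ y = z := by
      rw [← pullback.lift_snd (Fr ≫ c₁) c₂ hcomm, Scheme.Hom.comp_apply]
      exact (congrArg (fun w => pullback.snd pX pX w) hz).symm.trans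
        (by rw [← Scheme.Hom.comp_apply, pullback.diagonal_snd]; simp)
    exact hy₁ (h1.trans (h2.symm.trans hy₂))
  haveI : FrobSch.IsCharP W.toScheme p := FrobSch.IsCharP.of_hom W.ι p
  set I := Scheme.IdealSheafData.vanishingIdeal ⟨{x}, hx⟩
  have hfac : W.ι ≫ Fr ≫ c₁ = FN p W.toScheme (e * n) ≫ W.ι ≫ σ ≫ c₁ := by
    rw [hσ, ← Category.assoc (FN p W.toScheme (e * n)), FN_comm p W.ι]
    simp only [Category.assoc]
  have hI : (I.support : Set X) = {x} := by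
    exact Scheme.IdealSheafData.coe_support_vanishingIdeal _
  have key := comap_FN_le_and_pow_le p (I.comap (W.ι ≫ σ ≫ c₁)) (I.comap (W.ι ≫ c₂)) (e * n) d (by
      rw [Scheme.IdealSheafData.comap_comp]
      exact radical_comap_pow_le W.ι _ d (hd x hx)) hn (by
    intro y hy
    rw [Scheme.IdealSheafData.support_comap] at hy ⊢
    have hy' : c₂ y.1 = x := by
      have : (W.ι ≫ c₂) y ∈ (I.support : Set X) := hy
      rwa [hI] at this
    have h1 : (Fr ≫ c₁) y.1 = x := by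
      by_contra h
      exact y.2 ⟨hy', h⟩
    show (W.ι ≫ σ ≫ c₁) y ∈ (I.support : Set X)
    rw [← FN_apply p (e * n) y, ← Scheme.Hom.comp_apply, ← hfac, hI]
    exact h1)
  rw [← Scheme.IdealSheafData.comap_comp, ← hfac] at key
  exact ⟨key.1, d, key.2⟩

end Groth.Agent.LVFrob
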